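import Cfsg.Agent.Lib.IsolatedPMinimal.Basic
import Cfsg.Agent.Lib.Coprime.AbelianMaschke
import Cfsg.Agent.Lib.Components.GenFitting
import Mathlib.GroupTheory.Nilpotent

/-!
Isolated `p`-minimal subgroups, the case of an abelian chief factor `Y/N₀`: then `Y = O^p(P)` and
`Y/O_p(Y)` is a `t`-group of class at most two, `t ≠ p`.
-/

set_option autoImplicit false

namespace Cfsg.Agent.IsoPMin

open Subgroup Cfsg.Agent.LocalStructure
open scoped commutatorElement IsMulCommutative

variable {G : Type*} [Group G] [Finite G] {p : ℕ} [Fact p.Prime] {S : Sylow p G} {P L : Subgroup G}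

/-- If the chief factor is abelian, it is a `t`-group for a prime `t ≠ p`, and `Y ≤ O^p(P) N₀`. -/
theorem Setup.abelian_factor (h : Setup S P L) {N₀ : Subgroup G} (hN0 : N₀.Normal)
    (hNY : N₀ ≤ normalClosure (resOf p P : Set G)) (hne : N₀ ≠ normalClosure (resOf p P : Set G))
    (hmax : ∀ N : Subgroup G, N.Normal → N ≤ normalClosure (resOf p P : Set G) →
      N ≠ normalClosure (resOf p P : Set G) → N ≤ N₀)
    (hab : ⁅normalClosure (resOf p P : Set G), normalClosure (resOf p P : Set G)⁆ ≤ N₀) :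
    normalClosure (resOf p P : Set G) ≤ resOf p P ⊔ N₀ ∧
      ∃ t : ℕ, t.Prime ∧ t ≠ p ∧ ∀ y ∈ normalClosure (resOf p P : Set G), y ^ t ∈ N₀ := by
  classical
  set Y := normalClosure (resOf p P : Set G) with hY
  have hYn : Y.Normal := normalClosure_normal
  set f := QuotientGroup.mk' N₀ with hf
  have hfs : Function.Surjective f := QuotientGroup.mk'_surjective N₀
  set V := Y.map f with hV
  have hVn : V.Normal := hYn.map f hfs
  set A := resOf p P
  set A2 := A.map f with hA2
  set R2 := (pCoreOf p L).map f with hR2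
  set S2 := (S : Subgroup G).map f with hS2
  have hA0 : A2 ≠ ⊥ := fun e => by
    rw [hA2, Subgroup.map_eq_bot_iff, QuotientGroup.ker_mk'] at e
    exact hne (le_antisymm hNY (normalClosure_le_normal e))
  have hAV : A2 ≤ V := map_mono le_normalClosure
  have hmin : ∀ M : Subgroup (G ⧸ N₀), M.Normal → M ≤ V → M = ⊥ ∨ M = V := by
    intro M hM hMV
    by_cases he : M.comap f ⊓ Y = Y
    · refine Or.inr (le_antisymm hMV ?_)
      rw [hV, ← he]
      exact (map_mono inf_le_left).trans (map_comap_le f M)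
    · refine Or.inl (le_bot_iff.1 fun x hx => ?_)
      obtain ⟨y, hy, rfl⟩ := hMV hx
      have hMn : (M.comap f ⊓ Y).Normal := by
        have := hM.comap f
        exact normal_inf_normal _ _
      exact (QuotientGroup.eq_one_iff y).2 (hmax _ hMn inf_le_right he ⟨hx, hy⟩)
  have hVc : V ≤ centralizer (V : Set (G ⧸ N₀)) := by
    rw [← commutator_eq_bot_iff_le_centralizer, hV, ← map_commutator, Subgroup.map_eq_bot_iff,
      QuotientGroup.ker_mk']
    exact hab
  have hVcomm : IsMulCommutative ↥V := ⟨⟨fun a b => Subtype.ext (hVc b.2 a a.2)⟩⟩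
  obtain ⟨t, ht, htV⟩ := Nat.exists_prime_and_dvd (n := Nat.card ↥V) (fun e => hA0 (le_bot_iff.1
    (hAV.trans (Subgroup.card_eq_one.1 e).le)))
  have := Fact.mk ht
  -- the elements of order dividing `t` form a normal subgroup
  let W : Subgroup (G ⧸ N₀) :=
    { carrier := {x | x ∈ V ∧ x ^ t = 1}
      one_mem' := ⟨one_mem V, one_pow t⟩
      mul_mem' := fun {x y} hx hy => ⟨mul_mem hx.1 hy.1, by
        rw [(show Commute x y from hVc hy.1 x hx.1).mul_pow, hx.2, hy.2, one_mul]⟩
      inv_mem' := fun {x} hx => ⟨inv_mem hx.1, by rw [inv_pow, hx.2, inv_one]⟩ }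
  have hWn : W.Normal := ⟨fun x hx g => ⟨hVn.conj_mem x hx.1 g, by rw [conj_pow, hx.2]; group⟩⟩
  have hWV : W = V := (hmin W hWn fun x hx => hx.1).resolve_left fun e => by
    obtain ⟨x, hx⟩ := exists_prime_orderOf_dvd_card' t htV
    have h1 : (x : G ⧸ N₀) ∈ W := ⟨x.2, by rw [← hx, ← Subgroup.orderOf_coe, pow_orderOf_eq_one]⟩
    rw [e, mem_bot] at h1
    rw [show x = 1 from Subtype.ext h1, orderOf_one] at hx
    exact ht.one_lt.ne hx
  have hpow : ∀ v ∈ V, v ^ t = 1 := fun v hv => (hWV.ge hv).2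
  have htp : t ≠ p := by
    rintro rfl
    refine hA0 (le_bot_iff.1 ?_)
    rw [hA2, map_le_iff_le_comap]
    refine resOf_le_iff.2 fun x hx hc => ?_
    rw [mem_comap, mem_bot]
    refine orderOf_eq_one_iff.1 (Nat.Coprime.eq_one_of_dvd (hc.coprime_dvd_left ?_) ?_)
    · exact orderOf_map_dvd f x
    · exact orderOf_dvd_of_pow_eq_one (hpow _ (hAV (mem_map_of_mem f (mem_resOf hx hc))))
  refine ⟨?_, t, ht, htp, fun y hy => ?_⟩
  swap
  · rw [← QuotientGroup.eq_one_iff]
    exact hpow _ (mem_map_of_mem f hy)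
  have htop : (⊤ : Subgroup (G ⧸ N₀)) = V ⊔ L.map f := by
    rw [hV, ← Subgroup.map_sup, h.yG_sup, map_top_of_surjective f hfs]
  have hR2n : L.map f ≤ normalizer (R2 : Set (G ⧸ N₀)) :=
    (map_mono (le_normalizer_pCoreOf p L)).trans (le_normalizer_map f)
  have hfix : V ⊓ centralizer (R2 : Set (G ⧸ N₀)) = ⊥ := by
    have hn : (V ⊓ centralizer (R2 : Set (G ⧸ N₀))).Normal := by
      rw [← normalizer_eq_top_iff, eq_top_iff, htop]
      refine sup_le ?_ ?_
      · exact hVc.trans ((centralizer_le inf_le_left).trans (centralizer_le_normalizer _))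
      · exact le_normalizer_inf (by rw [normalizer_eq_top_iff.2 hVn]; exact le_top)
          (le_normalizer_centralizer hR2n)
    refine (hmin _ hn inf_le_left).resolve_right fun e => hA0 ?_
    have h1 : ⁅V, R2⁆ = ⊥ := commutator_eq_bot_iff_le_centralizer.2 (e.ge.trans inf_le_right)
    rw [hV, hR2, ← map_commutator, h.commutator_closure] at h1
    exact le_bot_iff.1 (hAV.trans h1.le)
  -- a complement to the image of `O^p(P)` invariant under `S`
  have hS2V : S2 ≤ normalizer (V : Set (G ⧸ N₀)) := by rw [normalizer_eq_top_iff.2 hVn]; exact le_top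
  have hS2A : S2 ≤ normalizer (A2 : Set (G ⧸ N₀)) :=
    (map_mono (h.hSP.trans (le_normalizer_resOf p P))).trans (le_normalizer_map f)
  let φ : ↥S2 →* MulAut ↥V := (MulAut.conjNormal (H := V)).comp S2.subtype
  have hX : (Nat.card φ.range).Coprime t := by
    have hp : IsPGroup p φ.range := (S.2.map f).of_surjective φ.rangeRestrict φ.rangeRestrict_surjective
    obtain ⟨k, hk⟩ := hp.exists_card_eq
    rw [hk]
    exact ((Nat.coprime_primes Fact.out ht).2 (Ne.symm htp)).pow_left k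
  have hUi : ∀ x ∈ φ.range, ∀ a ∈ A2.subgroupOf V, x a ∈ A2.subgroupOf V := by
    rintro _ ⟨s, rfl⟩ a ha
    exact (mem_normalizer_iff.1 (hS2A s.2) _).1 ha
  obtain ⟨D, -, hDi, hDU, hDtop⟩ := Coprime.exists_invariant_compl_elementary (p := t) φ.range hX
    (C := ⊥) (S := A2.subgroupOf V) (T := ⊤) bot_le le_top
    (fun v _ => mem_bot.2 (Subtype.ext (hpow v v.2)))
    (fun x _ a ha => by rw [mem_bot.1 ha, map_one]; exact one_mem _) hUi (fun _ _ _ _ => mem_top _)
  set D' := D.map V.subtype with hD'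
  have hD'V : D' ≤ V := map_subtype_le D
  have hS2D : S2 ≤ normalizer (D' : Set (G ⧸ N₀)) := by
    rw [le_normalizer_iff]
    rintro s hs _ ⟨d, hd, rfl⟩
    exact ⟨φ ⟨s, hs⟩ d, hDi _ ⟨_, rfl⟩ d hd, rfl⟩
  have hD'A : D' ⊓ A2 = ⊥ := le_bot_iff.1 fun x hx => by
    obtain ⟨d, hd, rfl⟩ := hx.1
    rw [mem_bot.1 (hDU.le ⟨hd, hx.2⟩)]
    exact one_mem _
  set H := (D'.comap f ⊓ Y) ⊔ (S : Subgroup G)
  rcases (h.overgroup H le_sup_right).1 with h1 | h1
  · -- `D` is centralised by `O_p(L)`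
    have hD'L : D' ≤ L.map f := fun x hx => by
      obtain ⟨y, hy, rfl⟩ := hD'V hx
      exact mem_map_of_mem f (h1 (mem_sup_left ⟨hx, hy⟩))
    have hD0 : D' = ⊥ := by
      refine le_bot_iff.1 (hfix ▸ le_inf hD'V ?_)
      intro x hx r hr
      have hxR : x ∈ normalizer (R2 : Set (G ⧸ N₀)) := hR2n (hD'L hx)
      have e : x * r * x⁻¹ * r⁻¹ = 1 := by
        have hc1 : x * r * x⁻¹ * r⁻¹ ∈ V := by
          rw [show x * r * x⁻¹ * r⁻¹ = x * (r * x⁻¹ * r⁻¹) by group]
          exact mul_mem (hD'V hx) (hVn.conj_mem _ (inv_mem (hD'V hx)) r)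
        have hc2 : x * r * x⁻¹ * r⁻¹ ∈ R2 :=
          mul_mem ((mem_normalizer_iff.1 hxR r).1 hr) (inv_mem hr)
        obtain ⟨k, hk⟩ := ((isPGroup_pCoreOf p L).map f) ⟨_, hc2⟩
        refine orderOf_eq_one_iff.1 (Nat.Coprime.eq_one_of_dvd ?_
          (orderOf_dvd_of_pow_eq_one (congrArg Subtype.val hk)))
        exact (((Nat.coprime_primes ht Fact.out).2 htp).coprime_dvd_left
          (orderOf_dvd_of_pow_eq_one (hpow _ hc1))).pow_right k
      rw [mul_inv_eq_one, mul_inv_eq_iff_eq_mul] at e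
      exact e.symm
    have hVA : V ≤ A2 := fun v hv => by
      have h2 : (⟨v, hv⟩ : ↥V) ∈ D ⊔ A2.subgroupOf V := hDtop ▸ mem_top _
      rw [show D = ⊥ from (map_eq_bot_iff_of_injective D V.subtype_injective).1 hD0, bot_sup_eq] at h2
      exact h2
    have := Subgroup.comap_mono (f := f) hVA
    rw [hV, hA2, comap_map_eq, comap_map_eq, QuotientGroup.ker_mk'] at this
    exact le_sup_left.trans this
  · exfalso
    refine hA0 (le_bot_iff.1 (hD'A ▸ le_inf ?_ le_rfl))
    have h2 : A2 ≤ S2 ⊔ D' := by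
      refine (map_mono ((resOf_le p P).trans h1)).trans ?_
      rw [Subgroup.map_sup]
      exact sup_le (((map_mono inf_le_left).trans (map_comap_le f D')).trans le_sup_right) le_sup_left
    rw [hA2, map_le_iff_le_comap]
    refine resOf_le_iff.2 fun x hx hc => ?_
    obtain ⟨k, hk⟩ := exists_pow_mem_of_mem_sup hS2D (S.2.map f) (h2 (mem_map_of_mem f (mem_resOf hx hc)))
    show f x ∈ D'
    exact mem_of_pow_mem (hc.coprime_dvd_left (orderOf_map_dvd f x)) hk

/-- With an abelian chief factor, `Y = O^p(P)`. -/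
theorem Setup.closure_eq_res (h : Setup S P L) {N₀ : Subgroup G} (hN0 : N₀.Normal)
    (hNY : N₀ ≤ normalClosure (resOf p P : Set G)) (hne : N₀ ≠ normalClosure (resOf p P : Set G))
    (hYA : normalClosure (resOf p P : Set G) ≤ resOf p P ⊔ N₀) :
    normalClosure (resOf p P : Set G) = resOf p P := by
  set Y := normalClosure (resOf p P : Set G)
  set A := resOf p P
  have hYn : Y.Normal := normalClosure_normal
  have hO := pCore_normal p G
  have hNR := h.commutator_le_pCore hN0 (h.proper_le hN0 hNY hne)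
  have hYP : Y ≤ P := by
    have h1 : ⁅Y, pCoreOf p L⁆ ≤ A ⊔ Cfsg.pCore p G := by
      rw [commutator_le]
      intro y hy r hr
      obtain ⟨a, ha, n, hn, rfl⟩ := exists_mul_of_mem_sup
        (by rw [normalizer_eq_top_iff.2 hN0]; exact le_top) (hYA hy)
      rw [show ⁅a * n, r⁆ = a * ⁅n, r⁆ * a⁻¹ * (a * (r * a⁻¹ * r⁻¹)) by
        rw [commutatorElement_def, commutatorElement_def]; group]
      refine mul_mem (mem_sup_right (hO.conj_mem _ (hNR (commutator_mem_commutator hn hr)) a))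
        (mem_sup_left (mul_mem ha ?_))
      exact (mem_normalizer_iff.1 (h.core_le_normalizer_res hr) _).1 (inv_mem ha)
    rw [h.commutator_closure] at h1
    refine h1.trans (sup_le (resOf_le p P) ?_)
    rw [← pCoreOf_top]
    exact (LocalStructure.pCoreOf_le_sylow S le_top).trans h.hSP
  refine le_antisymm ?_ le_normalClosure
  have hn : A.Normal := by
    rw [← normalizer_eq_top_iff, eq_top_iff]
    intro g _
    refine mem_normalizer_of_map_conj_le ?_
    rw [map_le_iff_le_comap]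
    refine resOf_le_iff.2 fun x hx hc => ?_
    refine mem_resOf (hYP (hYn.conj_mem x (le_normalClosure (mem_resOf hx hc)) g)) ?_
    show (orderOf (g * x * g⁻¹)).Coprime p
    rwa [orderOf_conj]
  exact normalClosure_le_normal le_rfl

/-- With an abelian chief factor, `Y/O_p(G) ∩ Y` is a `t`-group of class at most two. -/
theorem Setup.closure_class_two (h : Setup S P L) {N₀ : Subgroup G} (hN0 : N₀.Normal)
    (hNY : N₀ ≤ normalClosure (resOf p P : Set G)) (hne : N₀ ≠ normalClosure (resOf p P : Set G))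
    (hab : ⁅normalClosure (resOf p P : Set G), normalClosure (resOf p P : Set G)⁆ ≤ N₀)
    {t : ℕ} (ht : t.Prime) (hpow : ∀ y ∈ normalClosure (resOf p P : Set G), y ^ t ∈ N₀) :
    IsPGroup t ↥((normalClosure (resOf p P : Set G)).map (QuotientGroup.mk' (Cfsg.pCore p G) (nN := pCore_normal p G))) ∧
      ⁅⁅normalClosure (resOf p P : Set G), normalClosure (resOf p P : Set G)⁆,
        normalClosure (resOf p P : Set G)⁆ ≤ Cfsg.pCore p G := by
  have := Fact.mk ht
  have hO := pCore_normal p G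
  set Y := normalClosure (resOf p P : Set G)
  have hYn : Y.Normal := normalClosure_normal
  have hcen := h.commutator_proper hN0 hNY hne
  have hcls : ⁅⁅Y, Y⁆, Y⁆ ≤ Cfsg.pCore p G := (commutator_mono hab le_rfl).trans hcen
  refine ⟨?_, hcls⟩
  set q := QuotientGroup.mk' (Cfsg.pCore p G)
  set Yb := Y.map q with hYb
  have hnil : Group.IsNilpotent ↥Yb := Components.isNilpotent_of_commutator_commutator (by
    rw [hYb, ← map_commutator, ← map_commutator, Subgroup.map_eq_bot_iff, QuotientGroup.ker_mk']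
    exact hcls)
  obtain ⟨T₀⟩ : Nonempty (Sylow t ↥Yb) := inferInstance
  have hT0n : (T₀ : Subgroup ↥Yb).Normal :=
    T₀.normal_of_normalizerCondition (Group.normalizerCondition_of_isNilpotent)
  have hmem : ∀ y : ↥Yb, (∃ k : ℕ, y ^ t ^ k = 1) → y ∈ (T₀ : Subgroup ↥Yb) := by
    rintro y ⟨k, hk⟩
    have h1 : IsPGroup t ↥(zpowers y) := by
      obtain ⟨i, -, hi⟩ := (Nat.dvd_prime_pow ht).1 (orderOf_dvd_of_pow_eq_one hk)
      exact IsPGroup.of_card (n := i) (by rw [Nat.card_zpowers, hi])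
    exact (T₀.3 (h1.to_sup_of_normal_right T₀.2) le_sup_right).le (mem_sup_left (mem_zpowers y))
  set T := (T₀ : Subgroup ↥Yb).map Yb.subtype with hT
  suffices hYT : Yb ≤ T from (T₀.2.map Yb.subtype).to_le hYT
  have hYR : ⁅Yb, (pCoreOf p L).map q⁆ = Yb := by
    rw [hYb, ← map_commutator, h.commutator_closure]
  refine hYR.ge.trans (commutator_le.2 ?_)
  rintro w hw r hr
  -- `w = u c` with `u` a `t`-element and `c` in the image of `N₀`
  obtain ⟨k, m, hm, hord⟩ := Nat.exists_eq_pow_mul_and_not_dvd (orderOf_pos w).ne' t ht.ne_one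
  obtain ⟨a, b, hab'⟩ : IsCoprime ((t ^ k : ℕ) : ℤ) (m : ℤ) :=
    Int.isCoprime_iff_gcd_eq_one.2 (((ht.coprime_iff_not_dvd).2 hm).pow_left k)
  set u := (w ^ m) ^ b with hu
  set c := (w ^ (t ^ k)) ^ a with hc
  have huc : w = u * c := by
    rw [hu, hc, ← zpow_natCast, ← zpow_natCast, ← zpow_mul, ← zpow_mul, ← zpow_add,
      mul_comm (m : ℤ), mul_comm ((t ^ k : ℕ) : ℤ), add_comm, hab', zpow_one]
  have huY : u ∈ Yb := zpow_mem (pow_mem hw m) b
  have huT : u ∈ T := by
    refine ⟨⟨u, huY⟩, hmem _ ⟨k, Subtype.ext ?_⟩, rfl⟩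
    show u ^ t ^ k = 1
    rw [hu, ← zpow_natCast, ← zpow_mul, mul_comm, zpow_mul, zpow_natCast, ← pow_mul, mul_comm,
      ← hord, pow_orderOf_eq_one, one_zpow]
  have hcN : c ∈ N₀.map q := by
    rcases Nat.eq_zero_or_pos k with rfl | hk
    · -- no `t`-part: `w` is a power of `w ^ t`
      obtain ⟨j, hj⟩ := exists_pow_eq_self_of_coprime (n := t) (x := w)
        (((ht.coprime_iff_not_dvd).2 (by rwa [hord, pow_zero, one_mul])))
      obtain ⟨y, hy, rfl⟩ := hw
      rw [hc, pow_zero, pow_one, ← hj, ← map_pow, ← map_pow]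
      exact zpow_mem (mem_map_of_mem q (pow_mem (hpow y hy) j)) a
    · obtain ⟨y, hy, rfl⟩ := hw
      rw [hc, show t ^ k = t * t ^ (k - 1) by rw [← pow_succ', Nat.sub_add_cancel hk], pow_mul,
        ← map_pow, ← map_pow]
      exact zpow_mem (mem_map_of_mem q (pow_mem (hpow y hy) _)) a
  have hcr : ⁅c, r⁆ = 1 := by
    have h1 := map_mono (f := q) (h.commutator_le_pCore hN0 (h.proper_le hN0 hNY hne))
    rw [map_commutator] at h1
    have h2 := h1 (commutator_mem_commutator hcN hr)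
    obtain ⟨z, hz, hz'⟩ := h2
    rw [← hz']
    exact (QuotientGroup.eq_one_iff z).2 hz
  rw [huc, show ⁅u * c, r⁆ = u * ⁅c, r⁆ * u⁻¹ * (u * (r * u⁻¹ * r⁻¹)) by
    rw [commutatorElement_def, commutatorElement_def]; group, hcr, mul_one, mul_inv_cancel, one_mul]
  refine mul_mem huT ?_
  obtain ⟨⟨v, hv⟩, hvT, hve⟩ := inv_mem huT
  have hYbn : Yb.Normal := hYn.map q (QuotientGroup.mk'_surjective _)
  obtain ⟨j, hj⟩ := T₀.2 ⟨_, hvT⟩
  refine ⟨⟨r * v * r⁻¹, hYbn.conj_mem v hv r⟩, hmem _ ⟨j, Subtype.ext ?_⟩, ?_⟩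
  · have hj1 := congrArg Subtype.val (congrArg Subtype.val hj)
    have hj' : v ^ t ^ j = 1 := by simpa using hj1
    show (r * v * r⁻¹) ^ t ^ j = 1
    rw [conj_pow, hj', mul_one, mul_inv_cancel]
  · show r * v * r⁻¹ = r * u⁻¹ * r⁻¹
    rw [show v = u⁻¹ from hve]

end Cfsg.Agent.IsoPMin
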