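import Cfsg.Agent.Lib.IsolatedPMinimal.Basic
import Cfsg.Agent.Lib.Coprime.Sylow
import Cfsg.Agent.Lib.Coprime.Factorization
import Cfsg.Agent.Lib.Components.GenFitting
import Cfsg.Agent.Lib.Components.Subnormal

/-!
Isolated `p`-minimal subgroups, the case of a perfect `Y/O_p(Y)`: it has order divisible by `p` and is
generated by components, which `S` permutes transitively.
-/

set_option autoImplicit false
set_option linter.unusedSectionVars false

namespace Cfsg.Agent.IsoPMin

open Subgroup Cfsg.Agent.LocalStructure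
open scoped commutatorElement Pointwise

variable {G : Type*} [Group G] [Finite G] {p : ℕ} [Fact p.Prime]

/-- The situation in `G/O_p(G)`: images `Y`, `A`, `R`, `S`, `L` with the properties used below. -/
structure Quot (p : ℕ) (Y A R S L : Subgroup G) : Prop where
  normal : Y.Normal
  ne_bot : Y ≠ ⊥
  perfect : ⁅Y, Y⁆ = Y
  central : ∀ M : Subgroup G, M.Normal → M ≤ Y → M = Y ∨ ⁅M, Y⁆ = ⊥
  comm : ⁅Y, R⁆ = Y
  sup_eq : Y ⊔ L = ⊤
  hS : IsPGroup p S
  hRS : R ≤ S
  hSL : S ≤ L
  hLR : L ≤ normalizer (R : Set G)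
  dich : ∀ W : Subgroup G, W ≤ Y → S ≤ normalizer (W : Set G) → W ≤ L ∨ A ≤ W
  hA : A ≠ ⊥
  gen : ∀ M : Subgroup G, M.Normal → A ≤ M → Y ≤ M

variable {Y A R S L : Subgroup G}

theorem Quot.not_nilpotent (h : Quot p Y A R S L) : ¬ Group.IsNilpotent ↥Y := fun _ => by
  refine h.ne_bot (Subgroup.eq_bot_iff_forall Y |>.2 fun y hy => ?_)
  have : Group.IsPerfect ↥Y := Subgroup.isPerfect_iff.2 h.perfect
  have hs : Group.IsSolvable ↥Y := inferInstance
  rcases subsingleton_or_nontrivial ↥Y with hsub | hnt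
  · exact congrArg Subtype.val (Subsingleton.elim (⟨y, hy⟩ : ↥Y) 1)
  · exact absurd hs (Group.IsPerfect.not_isSolvable ↥Y)

/-- `p` divides `|Y|`. -/
theorem Quot.dvd_card (h : Quot p Y A R S L) : p ∣ Nat.card ↥Y := by
  have hp : p.Prime := Fact.out
  by_contra hpY
  have hYn := h.normal
  have hnY : ∀ K : Subgroup G, K ≤ normalizer (Y : Set G) := fun K => by
    rw [normalizer_eq_top_iff.2 hYn]; exact le_top
  have hcop : (Nat.card ↥S).Coprime (Nat.card ↥Y) := by
    obtain ⟨k, hk⟩ := h.hS.exists_card_eq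
    rw [hk]; exact (hp.coprime_iff_not_dvd.2 hpY).pow_left k
  have hsol : Group.IsSolvable ↥S := by
    have := h.hS.isNilpotent
    infer_instance
  have hRcop : ∀ x ∈ R, x ∈ Y → x = 1 := fun x hx hxY => by
    refine orderOf_eq_one_iff.1 (Nat.eq_one_of_dvd_coprimes hcop ?_ ?_)
    · have e := orderOf_dvd_natCard (⟨x, h.hRS hx⟩ : ↥S)
      rwa [Subgroup.orderOf_mk] at e
    · have e := orderOf_dvd_natCard (⟨x, hxY⟩ : ↥Y)
      rwa [Subgroup.orderOf_mk] at e
  -- invariant Sylow subgroups contain `A` or are centralised by `R`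
  have key : ∀ (r : ℕ) [Fact r.Prime], ∃ T : Subgroup G, T ≤ Y ∧ IsPGroup r T ∧
      r ^ (Nat.card ↥Y).factorization r = Nat.card ↥T ∧ S ≤ normalizer (T : Set G) ∧
      (T ≤ centralizer (R : Set G) ∨ A ≤ T) := by
    intro r _
    obtain ⟨T₀, hT₀⟩ := Coprime.exists_invariant_sylow (hnY S) hcop (Or.inl hsol) r
    refine ⟨_, map_subtype_le _, T₀.2.map _, ?_, hT₀, ?_⟩
    · rw [card_map_of_injective Y.subtype_injective, T₀.card_eq_multiplicity]
    rcases h.dich _ (map_subtype_le _) hT₀ with h1 | h1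
    · refine Or.inl fun x hx y hy => ?_
      have hc1 : x * y * x⁻¹ * y⁻¹ ∈ R :=
        mul_mem ((mem_normalizer_iff.1 (h.hLR (h1 hx)) y).1 hy) (inv_mem hy)
      have hxY : x ∈ Y := map_subtype_le _ hx
      have hc2 : x * y * x⁻¹ * y⁻¹ ∈ Y := by
        rw [show x * y * x⁻¹ * y⁻¹ = x * (y * x⁻¹ * y⁻¹) by group]
        exact mul_mem hxY (hYn.conj_mem _ (inv_mem hxY) y)
      have e := hRcop _ hc1 hc2
      rw [mul_inv_eq_one, mul_inv_eq_iff_eq_mul] at e
      exact e.symm
    · exact Or.inr h1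
  obtain ⟨t, ht, htA⟩ := Nat.exists_prime_and_dvd (n := Nat.card ↥A)
    (fun e => h.hA (Subgroup.card_eq_one.1 e))
  have := Fact.mk ht
  set C := Y ⊓ centralizer (R : Set G) with hC
  obtain ⟨T, hTY, hTt, hTcard, hTS, -⟩ := key t
  -- every other prime power divisor of `|Y|` divides `|C|`
  set m := Nat.card ↥Y / t ^ (Nat.card ↥Y).factorization t with hm
  have hY0 : Nat.card ↥Y ≠ 0 := Nat.card_pos.ne'
  have hmC : m ∣ Nat.card ↥C := by
    rw [Nat.dvd_iff_prime_pow_dvd_dvd]
    intro r k hr hrk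
    rcases Nat.eq_zero_or_pos k with rfl | hk
    · simp
    have := Fact.mk hr
    have hrt : r ≠ t := by
      rintro rfl
      exact Nat.not_dvd_ordCompl hr hY0 ((dvd_pow_self r hk.ne').trans hrk)
    obtain ⟨U, hUY, hUr, hUcard, -, hU | hU⟩ := key r
    · have h1 : r ^ k ∣ Nat.card ↥U := by
        rw [← hUcard]
        refine pow_dvd_pow r ?_
        exact (hr.pow_dvd_iff_le_factorization hY0).1 (hrk.trans (Nat.ordCompl_dvd _ _))
      exact h1.trans (card_dvd_of_le (le_inf hUY hU))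
    · exfalso
      obtain ⟨i, hi⟩ := (hUr.to_le hU).exists_card_eq
      rw [hi] at htA
      exact hrt ((Nat.prime_dvd_prime_iff_eq ht hr).1 (ht.dvd_of_dvd_pow htA)).symm
  -- `Y = T C`
  have hTC : ∀ w ∈ Y, ∃ u ∈ T, ∃ c ∈ C, u * c = w := by
    have h1 := Coprime.ncard_mul_mul_card_inf T C
    have h2 : Nat.card ↥(T ⊓ C : Subgroup G) ≤ t ^ (Nat.card ↥C).factorization t := by
      obtain ⟨i, hi⟩ := (hTt.to_le (inf_le_left : T ⊓ C ≤ T)).exists_card_eq
      rw [hi]
      refine Nat.pow_le_pow_right ht.pos ?_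
      rw [← ht.pow_dvd_iff_le_factorization Nat.card_pos.ne', ← hi]
      exact card_dvd_of_le inf_le_right
    have h3 : m * t ^ (Nat.card ↥C).factorization t ≤ Nat.card ↥C :=
      Nat.le_of_dvd Nat.card_pos (Nat.Coprime.mul_dvd_of_dvd_of_dvd
        ((Nat.coprime_ordCompl ht hY0).symm.pow_right _) hmC (Nat.ordProj_dvd _ _))
    have h4 : Nat.card ↥Y = Nat.card ↥T * m := by
      rw [← hTcard, hm, Nat.mul_div_cancel' (Nat.ordProj_dvd _ _)]
    have h5 : Nat.card ↥Y ≤ Nat.card ((T : Set G) * (C : Set G) : Set G) := by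
      refine Nat.le_of_mul_le_mul_right ?_ (Nat.card_pos (α := ↥(T ⊓ C : Subgroup G)))
      rw [h1]
      calc Nat.card ↥Y * Nat.card ↥(T ⊓ C : Subgroup G)
          ≤ Nat.card ↥Y * t ^ (Nat.card ↥C).factorization t := Nat.mul_le_mul_left _ h2
        _ = Nat.card ↥T * (m * t ^ (Nat.card ↥C).factorization t) := by rw [h4, mul_assoc]
        _ ≤ _ := Nat.mul_le_mul_left _ h3
    have hsub : ((T : Set G) * (C : Set G) : Set G) ⊆ (Y : Set G) := by
      rintro _ ⟨u, hu, c, hc, rfl⟩
      exact mul_mem (hTY hu) hc.1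
    have heq := Set.eq_of_subset_of_ncard_le hsub (by
      rwa [← Nat.card_coe_set_eq, ← Nat.card_coe_set_eq]) (Set.toFinite _)
    intro w hw
    obtain ⟨u, hu, c, hc, e⟩ := Set.mem_mul.1 (heq.ge hw)
    exact ⟨u, hu, c, hc, e⟩
  have hYT : Y ≤ T := by
    refine h.comm.ge.trans (commutator_le.2 fun w hw r hr => ?_)
    obtain ⟨u, hu, c, hc, rfl⟩ := hTC w hw
    rw [show ⁅u * c, r⁆ = u * ⁅c, r⁆ * u⁻¹ * (u * (r * u⁻¹ * r⁻¹)) by
      rw [commutatorElement_def, commutatorElement_def]; group,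
      commutatorElement_eq_one_iff_mul_comm.2 (hc.2 r hr).symm, mul_one, mul_inv_cancel, one_mul]
    exact mul_mem hu ((mem_normalizer_iff.1 (hTS (h.hRS hr)) _).1 (inv_mem hu))
  exact h.not_nilpotent (hTt.to_le hYT).isNilpotent

/-- `Y` contains a component. -/
theorem Quot.exists_component (h : Quot p Y A R S L) :
    ∃ K : Subgroup G, Cfsg.IsComponent K ∧ K ≤ Y := by
  have hYn := h.normal
  obtain ⟨K, ⟨hKs, hKY, hKc⟩, hKmin⟩ := (wellFounded_lt (α := Subgroup G)).has_min
    {K : Subgroup G | K.IsSubnormal ∧ K ≤ Y ∧ ⁅K, Y⁆ ≠ ⊥}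
    ⟨Y, hYn.isSubnormal, le_rfl, by rw [h.perfect]; exact h.ne_bot⟩
  refine ⟨K, (Components.isNilpotent_or_isComponent hKs (fun e => hKc ?_) ?_).resolve_left ?_, hKY⟩
  · rw [e, commutator_bot_left]
  · intro M hlt hn
    by_contra hM
    refine hKmin M ⟨Components.isSubnormal_of_normalized hKs hlt.le hn, hlt.le.trans hKY, ?_⟩ hlt
    exact fun e => hM (le_bot_iff.1 ((commutator_mono le_rfl hKY).trans e.le))
  · intro hnil
    have hF : (Cfsg.fittingSubgroup G ⊓ Y).Normal := by
      have : (Cfsg.fittingSubgroup G).Normal := inferInstance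
      exact normal_inf_normal _ _
    rcases h.central _ hF inf_le_right with e | e
    · refine h.not_nilpotent ?_
      have hFn : Group.IsNilpotent ↥(Cfsg.fittingSubgroup G) := Components.fittingSubgroup_isNilpotent G
      rw [← e]
      exact (Group.isNilpotent_congr (subgroupOfEquivOfLe inf_le_left)).mp (Subgroup.isNilpotent _)
    · exact hKc (le_bot_iff.1 ((commutator_mono (le_inf
        (Components.le_fittingSubgroup_of_isSubnormal hKs) hKY) le_rfl).trans e.le))

/-- `Y` is generated by its components. -/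
theorem Quot.sSup_components (h : Quot p Y A R S L) :
    sSup {K : Subgroup G | Cfsg.IsComponent K ∧ K ≤ Y} = Y := by
  set J := sSup {K : Subgroup G | Cfsg.IsComponent K ∧ K ≤ Y}
  obtain ⟨K, hK, hKY⟩ := h.exists_component
  have hJn : J.Normal := by
    rw [← normalizer_eq_top_iff, eq_top_iff]
    intro g _
    refine mem_normalizer_of_map_conj_le ?_
    rw [map_le_iff_le_comap]
    refine sSup_le fun K' hK' => ?_
    rw [← map_le_iff_le_comap]
    refine le_sSup ⟨Components.IsComponent.conj hK'.1 g, ?_⟩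
    rintro _ ⟨x, hx, rfl⟩
    exact h.normal.conj_mem x (hK'.2 hx) g
  refine (h.central J hJn (sSup_le fun K' hK' => hK'.2)).resolve_right fun e => ?_
  refine Components.IsComponent.ne_bot hK ?_
  rw [← Components.IsComponent.commutator_self hK]
  exact le_bot_iff.1 ((commutator_mono ((le_sSup (show K ∈ {K : Subgroup G | Cfsg.IsComponent K ∧ K ≤ Y} from ⟨hK, hKY⟩) : K ≤ J)) hKY).trans e.le)

theorem Quot.le_normalizer_component (h : Quot p Y A R S L) {K : Subgroup G} (hK : Cfsg.IsComponent K) :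
    Y ≤ normalizer (K : Set G) := by
  rw [← h.sSup_components]
  exact sSup_le fun K' hK' => Components.IsComponent.le_normalizer hK'.1 hK

/-- The join of the `S`-conjugates of `K`. -/
def orbitJoin (S K : Subgroup G) : Subgroup G :=
  ⨆ s : ↥S, K.map (MulAut.conj (s : G)).toMonoidHom

theorem le_orbitJoin (S K : Subgroup G) : K ≤ orbitJoin S K := by
  refine le_iSup_of_le (1 : ↥S) ?_
  rw [OneMemClass.coe_one, map_conj_one]

theorem le_normalizer_orbitJoin (S K : Subgroup G) :
    S ≤ normalizer (orbitJoin S K : Set G) := by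
  intro s hs
  refine mem_normalizer_of_map_conj_le ?_
  rw [orbitJoin, Subgroup.map_iSup]
  refine iSup_le fun u => le_iSup_of_le (⟨s, hs⟩ * u) ?_
  rw [Subgroup.coe_mul, map_conj_mul]

theorem Quot.orbitJoin_le (h : Quot p Y A R S L) {K : Subgroup G} (hKY : K ≤ Y) :
    orbitJoin S K ≤ Y := by
  refine iSup_le fun u => ?_
  rintro _ ⟨x, hx, rfl⟩
  exact h.normal.conj_mem x (hKY hx) u

/-- A component is centralised by `R`, or `A` lies in the join of its `S`-conjugates. -/
theorem Quot.component_dich (h : Quot p Y A R S L) {K : Subgroup G} (hK : Cfsg.IsComponent K)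
    (hKY : K ≤ Y) : ⁅K, R⁆ = ⊥ ∨ A ≤ orbitJoin S K := by
  set W := orbitJoin S K with hW
  have hWY := h.orbitJoin_le hKY
  have hSW := le_normalizer_orbitJoin S K
  rcases h.dich W hWY hSW with h1 | h1
  swap
  · exact Or.inr h1
  left
  have hWR : W ≤ normalizer (R : Set G) := h1.trans h.hLR
  set D := ⁅W, R⁆
  have hDR : D ≤ R := commutator_le.2 fun w hw r hr => by
    rw [commutatorElement_def]
    exact mul_mem ((mem_normalizer_iff.1 (hWR hw) r).1 hr) (inv_mem hr)
  have hDW : D ≤ W := commutator_le.2 fun w hw r hr => by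
    rw [commutatorElement_def, show w * r * w⁻¹ * r⁻¹ = w * (r * w⁻¹ * r⁻¹) by group]
    exact mul_mem hw ((mem_normalizer_iff.1 (hSW (h.hRS hr)) _).1 (inv_mem hw))
  have hWD : W ≤ normalizer (D : Set G) := normalizer_commutator_ge_left W R
  have hcomp : ∀ u : ↥S, ⁅K.map (MulAut.conj (u : G)).toMonoidHom, D⁆ = ⊥ := by
    intro u
    set K' := K.map (MulAut.conj (u : G)).toMonoidHom with hK'
    have hK'c : Cfsg.IsComponent K' := Components.IsComponent.conj hK _
    have hK'W : K' ≤ W := le_iSup_of_le u le_rfl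
    have hDK' : D ≤ normalizer (K' : Set G) :=
      (hDW.trans hWY).trans (h.le_normalizer_component hK'c)
    have hM : ⁅K', K' ⊓ D⁆ = ⊥ := by
      refine ((Components.IsQuasisimple.eq_or_commutator_eq_bot hK'c.2 inf_le_left
        (le_normalizer_inf Subgroup.le_normalizer (hK'W.trans hWD))).resolve_left fun e => ?_)
      refine Components.IsComponent.not_isSolvable hK'c ?_
      have := ((h.hS.to_le (hDR.trans h.hRS)).to_le (e ▸ inf_le_right : K' ≤ D)).isNilpotent
      infer_instance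
    have hc : ⁅K', D⁆ ≤ K' ⊓ D := commutator_le.2 fun x hx d hd => by
      refine mem_inf.2 ⟨?_, ?_⟩
      · rw [commutatorElement_def, show x * d * x⁻¹ * d⁻¹ = x * (d * x⁻¹ * d⁻¹) by group]
        exact mul_mem hx ((mem_normalizer_iff.1 (hDK' hd) _).1 (inv_mem hx))
      · rw [commutatorElement_def]
        exact mul_mem ((mem_normalizer_iff.1 (hWD (hK'W hx)) d).1 hd) (inv_mem hd)
    have h2 : ⁅⁅K', D⁆, K'⁆ = ⊥ := by
      rw [commutator_comm]
      exact le_bot_iff.1 ((commutator_mono le_rfl hc).trans hM.le)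
    rw [← Components.IsComponent.commutator_self hK'c]
    exact commutator_commutator_eq_bot_of_rotate h2 (by rw [commutator_comm D]; exact h2)
  have hWcD : W ≤ centralizer (D : Set G) :=
    iSup_le fun u => commutator_eq_bot_iff_le_centralizer.1 (hcomp u)
  have hWW : ⁅W, W⁆ = W := by
    refine le_antisymm (commutator_le_self W) (iSup_le fun u => ?_)
    rw [← Components.IsComponent.commutator_self (Components.IsComponent.conj hK (u : G))]
    exact commutator_mono (le_iSup_of_le u le_rfl) (le_iSup_of_le u le_rfl)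
  have h3 : ⁅⁅W, R⁆, W⁆ = ⊥ := by
    rw [commutator_comm]; exact commutator_eq_bot_iff_le_centralizer.2 hWcD
  have h4 : ⁅W, R⁆ = ⊥ := by
    nth_rewrite 1 [← hWW]
    exact commutator_commutator_eq_bot_of_rotate h3 (by rw [commutator_comm R]; exact h3)
  exact le_bot_iff.1 ((commutator_mono (le_orbitJoin S K) le_rfl).trans h4.le)

/-- No component is centralised by `R`. -/
theorem Quot.component_moved (h : Quot p Y A R S L) {K : Subgroup G} (hK : Cfsg.IsComponent K)
    (hKY : K ≤ Y) : ⁅K, R⁆ ≠ ⊥ := by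
  intro hKR
  set J := sSup {K : Subgroup G | Cfsg.IsComponent K ∧ K ≤ Y ∧ ⁅K, R⁆ = ⊥}
  have hJY : J ≤ Y := sSup_le fun _ hK' => hK'.2.1
  have hJn : J.Normal := by
    rw [← normalizer_eq_top_iff, eq_top_iff, ← h.sup_eq]
    refine sup_le ?_ fun g hg => ?_
    · intro y hy
      refine mem_normalizer_of_map_conj_le ?_
      rw [map_le_iff_le_comap]
      refine sSup_le fun K' hK' => ?_
      rw [← map_le_iff_le_comap, map_conj_eq_self (h.le_normalizer_component hK'.1 hy)]
      exact le_sSup hK'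
    refine mem_normalizer_of_map_conj_le ?_
    rw [map_le_iff_le_comap]
    refine sSup_le fun K' hK' => ?_
    rw [← map_le_iff_le_comap]
    refine le_sSup ⟨Components.IsComponent.conj hK'.1 g, ?_, ?_⟩
    · rintro _ ⟨x, hx, rfl⟩
      exact h.normal.conj_mem x (hK'.2.1 hx) g
    · rw [← map_conj_eq_self (h.hLR hg), ← map_commutator, hK'.2.2, Subgroup.map_bot]
  rcases h.central J hJn hJY with e | e
  · refine h.ne_bot (h.comm ▸ commutator_eq_bot_iff_le_centralizer.2 (e ▸ ?_))
    exact sSup_le fun K' hK' => commutator_eq_bot_iff_le_centralizer.1 hK'.2.2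
  · refine Components.IsComponent.ne_bot hK ?_
    rw [← Components.IsComponent.commutator_self hK]
    exact le_bot_iff.1 ((commutator_mono ((le_sSup (show K ∈ {K : Subgroup G | Cfsg.IsComponent K ∧ K ≤ Y ∧ ⁅K, R⁆ = ⊥} from ⟨hK, hKY, hKR⟩) : K ≤ J)) hKY).trans e.le)

/-- `S` is transitive on the components in `Y`. -/
theorem Quot.transitive (h : Quot p Y A R S L) {K₁ K₂ : Subgroup G} (hK₁ : Cfsg.IsComponent K₁)
    (hK₂ : Cfsg.IsComponent K₂) (hY₁ : K₁ ≤ Y) (hY₂ : K₂ ≤ Y) :
    ∃ s ∈ S, K₂ = K₁.map (MulAut.conj s).toMonoidHom := by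
  by_contra hne
  push Not at hne
  have hcases : ∀ K : Subgroup G, Cfsg.IsComponent K → K ≤ Y →
      ∀ K' : Subgroup G, Cfsg.IsComponent K' →
      (∀ s ∈ S, K ≠ K'.map (MulAut.conj s).toMonoidHom) → K ≤ centralizer (orbitJoin S K' : Set G) := by
    intro K hK _ K' hK' hs
    rw [le_centralizer_iff]
    exact iSup_le fun u => commutator_eq_bot_iff_le_centralizer.1
      (Components.IsComponent.commutator_eq_bot (Components.IsComponent.conj hK' _) hK
        (hs u u.2).symm)
  have hA₁ := (h.component_dich hK₁ hY₁).resolve_left (h.component_moved hK₁ hY₁)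
  have hA₂ := (h.component_dich hK₂ hY₂).resolve_left (h.component_moved hK₂ hY₂)
  have hAc : Y ≤ centralizer (A : Set G) := by
    rw [← h.sSup_components]
    refine sSup_le fun K hK => ?_
    by_cases hs : ∀ s ∈ S, K ≠ K₁.map (MulAut.conj s).toMonoidHom
    · exact (hcases K hK.1 hK.2 K₁ hK₁ hs).trans (centralizer_le hA₁)
    · push Not at hs
      obtain ⟨s, hsS, hse⟩ := hs
      refine (hcases K hK.1 hK.2 K₂ hK₂ fun u hu e => ?_).trans (centralizer_le hA₂)
      apply hne (u⁻¹ * s) (S.mul_mem (S.inv_mem hu) hsS)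
      rw [map_conj_mul, ← hse, e, ← map_conj_mul, inv_mul_cancel, map_conj_one]
  have hn : (Y ⊓ centralizer (Y : Set G)).Normal := by
    have := h.normal
    exact normal_inf_normal _ _
  refine h.ne_bot ?_
  have hle : Y ≤ centralizer (Y : Set G) := by
    refine (h.gen _ hn (le_inf ?_ (le_centralizer_iff.1 hAc))).trans inf_le_right
    exact hA₁.trans (h.orbitJoin_le hY₁)
  rw [← h.perfect]
  exact commutator_eq_bot_iff_le_centralizer.2 hle

end Cfsg.Agent.IsoPMin
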