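import Cfsg.Agent.Lib.IsolatedPMinimal.Abelian
import Cfsg.Agent.Lib.IsolatedPMinimal.Perfect

/-!
Isolated `p`-minimal subgroups: the two cases for `Y = ⟨O^p(P)^G⟩`, and the passage from
`Y/O_p(Y)` to the image of `Y` in `G/O_p(G)`.
-/

set_option autoImplicit false
set_option linter.unusedSectionVars false

namespace Cfsg.Agent.IsoPMin

open Subgroup Cfsg.Agent.LocalStructure
open scoped commutatorElement

variable {G : Type*} [Group G] [Finite G] {p : ℕ} [Fact p.Prime] {S : Sylow p G} {P L : Subgroup G}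

theorem Setup.cases_closure (h : Setup S P L) :
    (normalClosure (resOf p P : Set G) = resOf p P ∧ ∃ t : ℕ, t.Prime ∧ t ≠ p ∧
      IsPGroup t ↥((normalClosure (resOf p P : Set G)).map
        (QuotientGroup.mk' (Cfsg.pCore p G) (nN := pCore_normal p G))) ∧
      ⁅⁅normalClosure (resOf p P : Set G), normalClosure (resOf p P : Set G)⁆,
        normalClosure (resOf p P : Set G)⁆ ≤ Cfsg.pCore p G) ∨
    ⁅normalClosure (resOf p P : Set G), normalClosure (resOf p P : Set G)⁆ =
      normalClosure (resOf p P : Set G) := by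
  set Y := normalClosure (resOf p P : Set G)
  have hYn : Y.Normal := normalClosure_normal
  by_cases hperf : ⁅Y, Y⁆ = Y
  · exact Or.inr hperf
  left
  obtain ⟨N₀, hN0, hNY, hne, hmax⟩ := h.exists_max
  have hab : ⁅Y, Y⁆ ≤ N₀ := hmax _ inferInstance (commutator_le_self Y) hperf
  obtain ⟨hYA, t, ht, htp, hpow⟩ := h.abelian_factor hN0 hNY hne hmax hab
  obtain ⟨h1, h2⟩ := h.closure_class_two hN0 hNY hne hab ht hpow
  exact ⟨h.closure_eq_res hN0 hNY hne hYA, t, ht, htp, h1, h2⟩

/-- The situation in `G/O_p(G)` when `Y` is perfect. -/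
theorem Setup.quot (h : Setup S P L) [hO : (Cfsg.pCore p G).Normal]
    (hperf : ⁅normalClosure (resOf p P : Set G), normalClosure (resOf p P : Set G)⁆ =
      normalClosure (resOf p P : Set G)) :
    Quot p ((normalClosure (resOf p P : Set G)).map (QuotientGroup.mk' (Cfsg.pCore p G)))
      ((resOf p P).map (QuotientGroup.mk' (Cfsg.pCore p G)))
      ((pCoreOf p L).map (QuotientGroup.mk' (Cfsg.pCore p G)))
      ((S : Subgroup G).map (QuotientGroup.mk' (Cfsg.pCore p G)))
      (L.map (QuotientGroup.mk' (Cfsg.pCore p G))) := by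
  set q := QuotientGroup.mk' (Cfsg.pCore p G) with hq
  have hqs : Function.Surjective q := QuotientGroup.mk'_surjective _
  set Y := normalClosure (resOf p P : Set G)
  have hYn : Y.Normal := normalClosure_normal
  have hker : ∀ K : Subgroup G, K.map q = ⊥ ↔ K ≤ Cfsg.pCore p G := fun K => by
    rw [Subgroup.map_eq_bot_iff, QuotientGroup.ker_mk']
  have hA : (resOf p P).map q ≠ ⊥ := fun e => h.res_not_le_pCore ((hker _).1 e)
  refine
    { normal := hYn.map q hqs
      ne_bot := fun e => hA (le_bot_iff.1 ((map_mono le_normalClosure).trans e.le))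
      perfect := by rw [← map_commutator, hperf]
      central := ?_
      comm := by rw [← map_commutator, h.commutator_closure]
      sup_eq := by rw [← Subgroup.map_sup, h.yG_sup, map_top_of_surjective q hqs]
      hS := S.2.map q
      hRS := map_mono h.pCoreOf_le_sylow
      hSL := map_mono h.sylow_le
      hLR := (map_mono (le_normalizer_pCoreOf p L)).trans (le_normalizer_map q)
      dich := ?_
      hA := hA
      gen := ?_ }
  · intro M hM hMY
    have hMn : (M.comap q ⊓ Y).Normal := by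
      have := hM.comap q
      exact normal_inf_normal _ _
    have hMm : M = (M.comap q ⊓ Y).map q := by
      refine le_antisymm (fun x hx => ?_) ((map_mono inf_le_left).trans (map_comap_le q M))
      obtain ⟨y, hy, rfl⟩ := hMY hx
      exact mem_map_of_mem q ⟨hx, hy⟩
    by_cases he : M.comap q ⊓ Y = Y
    · exact Or.inl (le_antisymm hMY (by conv_rhs => rw [hMm, he]))
    · right
      rw [hMm, ← map_commutator, hker]
      exact h.commutator_proper hMn inf_le_right he
  · intro W hWY hSW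
    rcases (h.overgroup ((W.comap q ⊓ Y) ⊔ (S : Subgroup G)) le_sup_right).1 with h1 | h1
    · left
      intro x hx
      obtain ⟨y, hy, rfl⟩ := hWY hx
      exact mem_map_of_mem q (h1 (mem_sup_left ⟨hx, hy⟩))
    · right
      rw [map_le_iff_le_comap]
      refine resOf_le_iff.2 fun x hx hc => ?_
      have h2 : q x ∈ (S : Subgroup G).map q ⊔ W := by
        have h3 := mem_map_of_mem q (h1 hx)
        rw [Subgroup.map_sup, sup_comm] at h3
        exact sup_le_sup le_rfl ((map_mono inf_le_left).trans (map_comap_le q W)) h3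
      obtain ⟨k, hk⟩ := exists_pow_mem_of_mem_sup hSW (S.2.map q) h2
      show q x ∈ W
      exact mem_of_pow_mem (hc.coprime_dvd_left (orderOf_map_dvd q x)) hk
  · intro M hM hAM
    rw [map_le_iff_le_comap] at hAM ⊢
    have := hM.comap q
    exact normalClosure_le_normal hAM

/-- `O_p(Y) = O_p(G) ∩ Y` for normal `Y`. -/
theorem pCore_subgroup_eq {Y : Subgroup G} (hY : Y.Normal) :
    Cfsg.pCore p ↥Y = (Cfsg.pCore p G).subgroupOf Y := by
  have hO := pCore_normal p G
  refine le_antisymm (fun y hy => ?_) ?_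
  · exact pCoreOf_le_of_isSubnormal hY.isSubnormal ⟨y, hy, rfl⟩
  · exact LocalStructure.le_pCore inferInstance
      ((LocalStructure.isPGroup_pCore p).comap_of_injective Y.subtype Y.subtype_injective)

/-- The embedding of `Y/O_p(Y)` into `G/O_p(G)`. -/
theorem exists_embedding {Y : Subgroup G} (hY : Y.Normal) [hO : (Cfsg.pCore p G).Normal]
    [hn : (Cfsg.pCore p ↥Y).Normal] :
    ∃ ψ : ↥Y ⧸ Cfsg.pCore p ↥Y →* G ⧸ Cfsg.pCore p G, Function.Injective ψ ∧
      ψ.range = Y.map (QuotientGroup.mk' (Cfsg.pCore p G)) ∧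
      ∀ K : Subgroup (↥Y ⧸ Cfsg.pCore p ↥Y),
        (K.comap (QuotientGroup.mk' (Cfsg.pCore p ↥Y))).map Y.subtype =
          (K.map ψ).comap (QuotientGroup.mk' (Cfsg.pCore p G)) ⊓ Y := by
  have hker : ∀ y : ↥Y, y ∈ Cfsg.pCore p ↥Y ↔
      y ∈ ((QuotientGroup.mk' (Cfsg.pCore p G)).comp Y.subtype).ker := fun y => by
    rw [pCore_subgroup_eq hY, MonoidHom.mem_ker, mem_subgroupOf]
    exact (QuotientGroup.eq_one_iff (y : G)).symm
  let ψ : ↥Y ⧸ Cfsg.pCore p ↥Y →* G ⧸ Cfsg.pCore p G :=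
    QuotientGroup.lift _ ((QuotientGroup.mk' (Cfsg.pCore p G)).comp Y.subtype) fun y hy => (hker y).1 hy
  have hinj : Function.Injective ψ := by
    rw [← MonoidHom.ker_eq_bot_iff, eq_bot_iff]
    intro x hx
    obtain ⟨y, rfl⟩ := QuotientGroup.mk_surjective x
    exact mem_bot.2 ((QuotientGroup.eq_one_iff y).2 ((hker y).2 hx))
  refine ⟨ψ, hinj, ?_, fun K => ?_⟩
  · ext x
    constructor
    · rintro ⟨z, rfl⟩
      obtain ⟨y, rfl⟩ := QuotientGroup.mk_surjective z
      exact mem_map_of_mem _ y.2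
    · rintro ⟨y, hy, rfl⟩
      exact ⟨QuotientGroup.mk (⟨y, hy⟩ : ↥Y), rfl⟩
  · ext x
    constructor
    · rintro ⟨y, hy, rfl⟩
      exact ⟨mem_map_of_mem ψ hy, y.2⟩
    · rintro ⟨⟨z, hz, hzx⟩, hxY⟩
      refine ⟨⟨x, hxY⟩, ?_, rfl⟩
      show (QuotientGroup.mk (⟨x, hxY⟩ : ↥Y) : ↥Y ⧸ Cfsg.pCore p ↥Y) ∈ K
      have : ψ z = ψ (QuotientGroup.mk (⟨x, hxY⟩ : ↥Y)) := hzx
      rwa [← hinj this]

theorem Setup.perfect_structure (h : Setup S P L) {Y : Subgroup G}
    (hYdef : Y = normalClosure (resOf p P : Set G)) (hperf : ⁅Y, Y⁆ = Y) :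
    ∃ _ : (Cfsg.pCore p ↥Y).Normal,
      p ∣ Nat.card (↥Y ⧸ Cfsg.pCore p ↥Y) ∧ Cfsg.layer (↥Y ⧸ Cfsg.pCore p ↥Y) = ⊤ ∧
      ∀ K₁ K₂ : Subgroup (↥Y ⧸ Cfsg.pCore p ↥Y), Cfsg.IsComponent K₁ → Cfsg.IsComponent K₂ →
        ∃ s ∈ (S : Subgroup G), ((K₂.comap (QuotientGroup.mk' (Cfsg.pCore p ↥Y))).map Y.subtype) =
          (((K₁.comap (QuotientGroup.mk' (Cfsg.pCore p ↥Y))).map Y.subtype)).map (MulAut.conj s).toMonoidHom := by
  subst hYdef
  set Y := normalClosure (resOf p P : Set G)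
  have hYn : Y.Normal := normalClosure_normal
  have hO := pCore_normal p G
  have hn : (Cfsg.pCore p ↥Y).Normal := pCore_normal p ↥Y
  have hQ := h.quot hperf
  set q := QuotientGroup.mk' (Cfsg.pCore p G) with hq
  obtain ⟨ψ, hinj, hrange, hcomap⟩ := exists_embedding (p := p) hYn
  have hcomp : ∀ K : Subgroup (↥Y ⧸ Cfsg.pCore p ↥Y), Cfsg.IsComponent K →
      Cfsg.IsComponent (K.map ψ) ∧ K.map ψ ≤ Y.map q := by
    intro K hK
    refine ⟨⟨?_, Components.IsQuasisimple.map_injective hK.2 hinj⟩, hrange ▸ map_le_range ψ K⟩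
    have h1 : (K.map ψ.rangeRestrict).IsSubnormal := hK.1.map ψ.rangeRestrict_surjective
    have hrn : ψ.range.Normal := hrange ▸ hQ.normal
    have h2 := h1.trans' hrn.isSubnormal
    rwa [Subgroup.map_map] at h2
  refine ⟨hn, ?_, ?_, fun K₁ K₂ hK₁ hK₂ => ?_⟩
  · rw [Nat.card_congr (MonoidHom.ofInjective hinj).toEquiv, hrange]
    exact hQ.dvd_card
  · refine map_injective hinj (le_antisymm (map_mono le_top) ?_)
    rw [← MonoidHom.range_eq_map, hrange, ← hQ.sSup_components]
    refine sSup_le fun K hK => ?_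
    have hKr : K ≤ ψ.range := hrange ▸ hK.2
    rw [← map_comap_eq_self hKr]
    refine map_mono (Components.IsComponent.le_layer ⟨hK.1.1.comap ψ, ?_⟩)
    refine (Components.isQuasisimple_congr ((K.comap ψ).equivMapOfInjective ψ hinj)).2 ?_
    rw [map_comap_eq_self hKr]
    exact hK.1.2
  · obtain ⟨hc₁, hY₁⟩ := hcomp K₁ hK₁
    obtain ⟨hc₂, hY₂⟩ := hcomp K₂ hK₂
    obtain ⟨s', ⟨s, hs, rfl⟩, he⟩ := hQ.transitive hc₁ hc₂ hY₁ hY₂
    refine ⟨s, hs, ?_⟩
    rw [hcomap, hcomap, he]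
    ext x
    rw [mem_map_conj, mem_inf, mem_inf, mem_comap, mem_comap, mem_map_conj]
    refine and_congr (by simp [hq]) ⟨fun hx => ?_, fun hx => ?_⟩
    · simpa using hYn.conj_mem x hx s⁻¹
    · simpa [mul_assoc] using hYn.conj_mem _ hx s

end Cfsg.Agent.IsoPMin
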